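import Groth.Agent.Lib.RelReg.Stalk
import Groth.Agent.Lib.SeqKinds.NoetherianLocal
import Groth.Agent.Lib.FibreFlat.RegularFlat
import Mathlib.RingTheory.TensorProduct.Quotient

/-!
# A quasi-regular sequence with flat quotient is regular on the fibre
-/

set_option autoImplicit false
set_option linter.all false
universe u

open IsLocalRing RingTheory.Sequence MvPolynomial
open scoped TensorProduct

namespace GrothLib.RelReg

variable {R A : Type u} [CommRing R] [IsLocalRing R] [CommRing A] [Algebra R A]

/-- The fibre of an essentially finitely presented local algebra is Noetherian. -/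
theorem isNoetherianRing_fibre [IsLocalRing A] (hS : CAlgX.IsEssFinitePresentation R A) :
    IsNoetherianRing (A ⧸ (maximalIdeal R).map (algebraMap R A)) := by
  set mS := (maximalIdeal R).map (algebraMap R A)
  let ι : ResidueField R →+* A ⧸ mS := Ideal.quotientMap mS (algebraMap R A) Ideal.le_comap_map
  obtain ⟨k, φ, hφ⟩ := GrothLib.FibreFlat.exists_generators hS
  refine GrothLib.FibreFlat.isNoetherianRing_of_fractions (B := MvPolynomial (Fin k) (ResidueField R))
    (MvPolynomial.eval₂Hom ι fun i => Ideal.Quotient.mk mS (φ (X i))) fun y => ?_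
  obtain ⟨s, rfl⟩ := Ideal.Quotient.mk_surjective y
  obtain ⟨b, t, ht, e'⟩ := hφ s
  have hc : ∀ q, MvPolynomial.eval₂Hom ι (fun i => Ideal.Quotient.mk mS (φ (X i)))
      (MvPolynomial.map (residue R) q) = Ideal.Quotient.mk mS (φ q) := fun q => by
    have : (MvPolynomial.eval₂Hom ι fun i => Ideal.Quotient.mk mS (φ (X i))).comp
        (MvPolynomial.map (residue R)) = (Ideal.Quotient.mk mS).comp φ.toRingHom := by
      refine MvPolynomial.ringHom_ext (fun x => ?_) fun i => ?_
      · rw [RingHom.comp_apply, RingHom.comp_apply, MvPolynomial.map_C, MvPolynomial.eval₂Hom_C]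
        exact congrArg _ (φ.commutes x).symm
      · simp
    exact DFunLike.congr_fun this q
  refine ⟨MvPolynomial.map (residue R) b, MvPolynomial.map (residue R) t, ?_, ?_⟩
  · rw [hc]; exact ht.map _
  · rw [hc, hc, ← map_mul, e']

/-- On the fibre, a quasi-regular sequence with flat quotient stays quasi-regular. -/
theorem isQuasiRegular_fibre {c : ℕ} (a : Fin c → A) [Module.Flat R (A ⧸ Ideal.span (Set.range a))]
    (hq : CAlgX.IsQuasiRegular a) :
    CAlgX.IsQuasiRegular fun i => Ideal.Quotient.mk ((maximalIdeal R).map (algebraMap R A)) (a i) := by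
  have h := GrothLib.SeqKinds.isQuasiRegular_baseChange (R := R) (R ⧸ maximalIdeal R) a hq
  let e := ((Algebra.TensorProduct.quotIdealMapEquivTensorQuot A (maximalIdeal R)).toRingEquiv.trans
    (Algebra.TensorProduct.comm R A (R ⧸ maximalIdeal R)).toRingEquiv).symm
  have := GrothLib.SeqKinds.isQuasiRegular_map e.toRingHom (RingHom.Flat.of_bijective e.bijective) _ h
  convert this using 1
  funext i
  refine e.symm.injective ?_
  refine Eq.trans ?_ (e.symm_apply_apply _).symm
  show (Algebra.TensorProduct.comm R A (R ⧸ maximalIdeal R))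
    (Algebra.TensorProduct.quotIdealMapEquivTensorQuot A (maximalIdeal R) (Ideal.Quotient.mk _ (a i))) = _
  rw [Algebra.TensorProduct.quotIdealMapEquivTensorQuot_mk]
  rfl

/-- A quasi-regular sequence with flat quotient is regular on the fibre. -/
theorem isRegular_fibre [IsLocalRing A] [IsLocalHom (algebraMap R A)] (hS : CAlgX.IsEssFinitePresentation R A)
    {c : ℕ} (a : Fin c → A) (hm : ∀ i, a i ∈ maximalIdeal A) [Module.Flat R (A ⧸ Ideal.span (Set.range a))]
    (hq : CAlgX.IsQuasiRegular a) :
    IsRegular (A ⧸ (maximalIdeal R).map (algebraMap R A))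
      ((List.ofFn a).map (Ideal.Quotient.mk ((maximalIdeal R).map (algebraMap R A)))) := by
  set mS := (maximalIdeal R).map (algebraMap R A) with hmS
  have hle : mS ≤ maximalIdeal A := GrothLib.Flatness.map_maximalIdeal_le
  haveI : Nontrivial (A ⧸ mS) := Ideal.Quotient.nontrivial_iff.mpr
    (ne_top_of_le_ne_top (maximalIdeal.isMaximal A).ne_top hle)
  haveI : IsLocalRing (A ⧸ mS) := .of_surjective' (Ideal.Quotient.mk mS) Ideal.Quotient.mk_surjective
  haveI := isNoetherianRing_fibre (R := R) hS
  rw [List.map_ofFn]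
  refine GrothLib.SeqKinds.isRegular_of_isQuasiRegular _ (fun i => ?_) (isQuasiRegular_fibre a hq)
  rw [mem_maximalIdeal, mem_nonunits_iff]
  intro hu
  haveI : IsLocalHom (Ideal.Quotient.mk mS) := isLocalHom_of_le_jacobson_bot _ (hle.trans (maximalIdeal_le_jacobson _))
  exact (mem_nonunits_iff.mp ((mem_maximalIdeal _).mp (hm i))) (hu.of_map (Ideal.Quotient.mk mS))

end GrothLib.RelReg
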