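import Groth.Agent.Lib.RelReg.Fibre
import Groth.Agent.Lib.KoszulFwd
import Groth.Prelude.Def_RegImm

/-!
# Lifting equations from the fibre; regular immersions are quasi-regular
-/

set_option autoImplicit false
set_option linter.all false
universe u

open IsLocalRing RingTheory.Sequence CategoryTheory AlgebraicGeometry

namespace GrothLib.RelReg

variable {R A : Type u} [CommRing R] [IsLocalRing R] [CommRing A] [IsLocalRing A] [Algebra R A]

/-- An ideal with flat quotient meets the extension of an ideal of the base in their product. -/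
theorem mem_smul_of_mem_map_of_flat (m : Ideal R) (J : Ideal A) [Module.Flat R (A ⧸ J)] {x : A}
    (hxm : x ∈ m.map (algebraMap R A)) (hxJ : x ∈ J) : x ∈ m.map (algebraMap R A) * J := by
  obtain ⟨n, c, v, hsum⟩ := Submodule.mem_span_set'.mp
    (show x ∈ Submodule.span A ((algebraMap R A) '' m) from hxm)
  choose w hwm hw using fun k => (v k).2
  obtain ⟨l, b, y, hy, hb⟩ := Module.Flat.isTrivialRelation_of_sum_smul_eq_zero (R := R) (M := A ⧸ J)
    (f := w) (x := fun k => Ideal.Quotient.mk J (c k)) (by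
      rw [← Ideal.Quotient.eq_zero_iff_mem.mpr hxJ, ← hsum, map_sum]
      refine Finset.sum_congr rfl fun k _ => ?_
      rw [← hw k, smul_eq_mul, map_mul, mul_comm, Algebra.smul_def]
      rfl)
  choose y' hy' using fun j => Ideal.Quotient.mk_surjective (y j)
  have hx : x = ∑ k, algebraMap R A (w k) * (c k - ∑ j, algebraMap R A (b k j) * y' j) := by
    simp only [mul_sub, Finset.sum_sub_distrib, Finset.mul_sum, ← mul_assoc, ← map_mul]
    rw [Finset.sum_comm]
    simp only [← Finset.sum_mul, ← map_sum, hb, map_zero, zero_mul, Finset.sum_const_zero, sub_zero]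
    rw [← hsum]
    exact Finset.sum_congr rfl fun k _ => by rw [← hw k, smul_eq_mul, mul_comm]
  rw [hx]
  refine Ideal.sum_mem _ fun k _ => Ideal.mul_mem_mul (Ideal.mem_map_of_mem _ (hwm k)) ?_
  rw [← Ideal.Quotient.eq_zero_iff_mem, map_sub, map_sum, sub_eq_zero]
  refine (hy k).trans ?_
  refine Finset.sum_congr rfl fun j _ => ?_
  rw [map_mul, hy', Algebra.smul_def]
  rfl

/-- Equations on the fibre of an ideal with flat quotient generate the ideal. -/
theorem eq_span_of_fibre [IsLocalHom (algebraMap R A)] (J : Ideal A) (hfg : J.FG) [Module.Flat R (A ⧸ J)]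
    {c : ℕ} (a : Fin c → A) (ha : ∀ i, a i ∈ J)
    (h : J ≤ Ideal.span (Set.range a) ⊔ (maximalIdeal R).map (algebraMap R A)) :
    J = Ideal.span (Set.range a) := by
  have hle : Ideal.span (Set.range a) ≤ J := Ideal.span_le.mpr (Set.range_subset_iff.mpr ha)
  refine le_antisymm (Submodule.le_of_le_smul_of_le_jacobson_bot (I := maximalIdeal A) hfg
    (maximalIdeal_le_jacobson ⊥) fun x hx => ?_) hle
  obtain ⟨p, hp, q, hq, rfl⟩ := Submodule.mem_sup.mp (h hx)
  have hqJ : q ∈ J := by simpa using sub_mem hx (hle hp)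
  refine add_mem (Submodule.mem_sup_left hp) (Submodule.mem_sup_right ?_)
  exact Ideal.mul_mono_left GrothLib.Flatness.map_maximalIdeal_le (mem_smul_of_mem_map_of_flat _ J hq hqJ)

/-- Regular immersions are quasi-regular. -/
theorem quasiAt_of_regularAt {Z X : Scheme.{u}} {i : Z ⟶ X} {z : Z}
    (h : RegImm.IsRegularImmersionAt RegImm.Kind.regular i z) :
    RegImm.IsRegularImmersionAt RegImm.Kind.quasi i z := by
  obtain ⟨U, hz, hci, rs, hrs, hI⟩ := h
  exact ⟨U, hz, hci, rs, GrothLib.SeqKinds.isQuasiRegular_of_isH1Regular _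
    (GrothLib.SeqKinds.isH1Regular_of_isKoszulRegularSeq _
      (GrothLib.KoszulFwd.isKoszulRegularSeq_of_isWeaklyRegular _ hrs.1)), hI⟩

set_option backward.isDefEq.respectTransparency false in
/-- The ideal of a base change at a stalk. -/
theorem ker_stalkMap_of_isPullback {X Y X' Y' : Scheme.{u}} {i : Y ⟶ X} {g : X' ⟶ X} {i' : Y' ⟶ X'} {g' : Y' ⟶ Y}
    (hsq : IsPullback g' i' i g) (U : X.affineOpens) (hci : IsClosedImmersion (i ∣_ U.1))
    (z : Y) (hz : i z ∈ U.1) (y : Y') (hx : g (i' y) = i z) :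
    RingHom.ker (i'.stalkMap y).hom = (RingHom.ker (i.stalkMap z).hom).map
      ((X.presheaf.stalkCongr (.of_eq hx.symm)).hom ≫ g.stalkMap (i' y)).hom := by
  have hy : i' y ∈ g ⁻¹ᵁ U.1 := by show g (i' y) ∈ U.1; rw [hx]; exact hz
  obtain ⟨W, hW, hyW, e⟩ := exists_isAffineOpen_mem_and_subset (U := g ⁻¹ᵁ U.1) hy
  obtain ⟨hciW, hker⟩ := GrothLib.RegSeqLoc.ker_of_isPullback hsq U hci hW e
  rw [ker_stalkMap_eq_map i' hW hciW y hyW, hker, ker_stalkMap_eq_map i U.2 hci z hz, Ideal.map_map,
    Ideal.map_map, ← CommRingCat.hom_comp, ← CommRingCat.hom_comp]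
  congr 2
  have hgU : g (i' y) ∈ U.1 := hy
  rw [TopCat.Presheaf.stalkCongr_hom, ← Category.assoc, TopCat.Presheaf.germ_stalkSpecializes,
    Scheme.Hom.germ_stalkMap, Scheme.Hom.appLE, Category.assoc]
  exact congrArg (g.app U.1 ≫ ·) (X'.presheaf.germ_res (homOfLE e) (i' y) hyW)

end GrothLib.RelReg
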