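import Groth.Agent.Lib.RelReg.Fibre
import Groth.Agent.Lib.FibreFlat.Slice

/-!
# Charts of an immersion cut out by sections over which the ambient scheme is flat over affine space
-/

set_option autoImplicit false
set_option linter.all false
universe u

open CategoryTheory Limits AlgebraicGeometry TopologicalSpace RingTheory.Sequence

namespace GrothLib.RelReg

/-- Finitely generated ideals equal at a localization are equal after inverting one element. -/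
theorem exists_away_eq_of_fg {A : Type u} [CommRing A] (S : Submonoid A) (Ap : Type u) [CommRing Ap] [Algebra A Ap]
    [IsLocalization S Ap] (I J : Ideal A) (hI : I.FG) (hJ : J.FG)
    (h : I.map (algebraMap A Ap) = J.map (algebraMap A Ap)) :
    ∃ g ∈ S, ∀ (B : Type u) [CommRing B] (φ : A →+* B), IsUnit (φ g) → I.map φ = J.map φ := by
  classical
  have key : ∀ I J : Ideal A, I.FG → I.map (algebraMap A Ap) ≤ J.map (algebraMap A Ap) →
      ∃ g ∈ S, ∀ x ∈ I, g * x ∈ J := by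
    intro I J hI h
    obtain ⟨gen, hgen⟩ := hI
    have : ∀ x ∈ gen, ∃ s ∈ S, s * x ∈ J := fun x hx =>
      (IsLocalization.algebraMap_mem_map_algebraMap_iff S Ap J x).1
        (h (Ideal.mem_map_of_mem _ (hgen.le (Submodule.subset_span hx))))
    choose! s hs hsx using this
    refine ⟨∏ x ∈ gen, s x, Submonoid.prod_mem _ hs, fun x hx => ?_⟩
    have hle : Submodule.span A (gen : Set A) ≤ Submodule.comap (LinearMap.mulLeft A (∏ x ∈ gen, s x)) J := by
      refine Submodule.span_le.2 fun y hy => ?_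
      show (∏ x ∈ gen, s x) * y ∈ J
      rw [← Finset.prod_erase_mul _ _ hy, mul_assoc]
      exact Ideal.mul_mem_left _ _ (hsx y hy)
    exact hle (hgen.ge hx)
  obtain ⟨g₁, hg₁, h₁⟩ := key I J hI h.le
  obtain ⟨g₂, hg₂, h₂⟩ := key J I hJ h.ge
  refine ⟨g₁ * g₂, S.mul_mem hg₁ hg₂, fun B _ φ hu => ?_⟩
  rw [map_mul, IsUnit.mul_iff] at hu
  refine le_antisymm (Ideal.map_le_iff_le_comap.2 fun x hx => ?_) (Ideal.map_le_iff_le_comap.2 fun x hx => ?_)
  · rw [Ideal.mem_comap]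
    refine (Ideal.unit_mul_mem_iff_mem _ hu.1).1 ?_
    rw [← map_mul]
    exact Ideal.mem_map_of_mem _ (h₁ x hx)
  · rw [Ideal.mem_comap]
    refine (Ideal.unit_mul_mem_iff_mem _ hu.2).1 ?_
    rw [← map_mul]
    exact Ideal.mem_map_of_mem _ (h₂ x hx)

variable {X Z S : Scheme.{u}}

/-- Around `i z` the immersion is cut out by sections along which `X` is flat over affine space over `S`. -/
def HasSliceChart (f : X ⟶ S) (i : Z ⟶ X) (z : Z) : Prop :=
  ∃ (V : S.affineOpens) (U : X.affineOpens) (e : U.1 ≤ f ⁻¹ᵁ V.1), i z ∈ U.1 ∧ IsClosedImmersion (i ∣_ U.1) ∧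
    ∃ (r : ℕ) (s : Fin r → Γ(X, U.1)), RingHom.ker (i.app U.1).hom = Ideal.ofList (List.ofFn s) ∧
      (letI := (f.appLE V.1 U.1 e).hom.toAlgebra
       (MvPolynomial.aeval (R := Γ(S, V.1)) s).toRingHom.Flat)

/-- The ideal of an immersion on a smaller affine open. -/
theorem ker_res (i : Z ⟶ X) (U : X.affineOpens) (hci : IsClosedImmersion (i ∣_ U.1)) {W : X.Opens}
    (hW : IsAffineOpen W) (e : W ≤ U.1) :
    IsClosedImmersion (i ∣_ W) ∧
      RingHom.ker (i.app W).hom = (RingHom.ker (i.app U.1).hom).map (X.presheaf.map (homOfLE e).op).hom := by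
  have h := GrothLib.RegSeqLoc.ker_of_isPullback (g := 𝟙 X) (i' := i) (g' := 𝟙 Z)
    (IsPullback.of_horiz_isIso ⟨by simp⟩) U hci hW (fun a ha => e ha)
  rw [show (𝟙 X : X ⟶ X).appLE U.1 W (fun a ha => e ha) = X.presheaf.map (homOfLE e).op by
    simp [Scheme.Hom.appLE]; exact Category.id_comp _] at h
  exact h

theorem flat_res {U W : X.Opens} (hU : IsAffineOpen U) (hW : IsAffineOpen W) (e : W ≤ U) :
    (X.presheaf.map (homOfLE e).op).hom.Flat := by
  have h := HasRingHomProperty.appLE (P := @Flat) (𝟙 X) inferInstance ⟨U, hU⟩ ⟨W, hW⟩ (fun a ha => e ha)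
  rwa [show (𝟙 X : X ⟶ X).appLE U W (fun a ha => e ha) = X.presheaf.map (homOfLE e).op by
    simp [Scheme.Hom.appLE]; exact Category.id_comp _] at h

/-- The ideal of an immersion on an open meeting the subscheme is proper. -/
theorem ker_app_ne_top (i : Z ⟶ X) {U : X.Opens} (z : Z) (hz : i z ∈ U) :
    RingHom.ker (i.app U).hom ≠ ⊤ := by
  intro h
  have h1 : (i.app U).hom 1 = 0 := RingHom.mem_ker.mp (h ▸ Submodule.mem_top)
  rw [map_one] at h1
  have := congrArg (Z.presheaf.germ (i ⁻¹ᵁ U) z hz).hom h1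
  rw [map_one, map_zero] at this
  exact one_ne_zero this

set_option backward.isDefEq.respectTransparency false in
/-- Equations regular on the fibre spread out to a slice chart. -/
theorem exists_chart (f : X ⟶ S) [LocallyOfFinitePresentation f] (i : Z ⟶ X) (z : Z)
    (hflat : (f.stalkMap (i z)).hom.Flat) (U₀ : X.affineOpens) (hz : i z ∈ U₀.1)
    (hci : IsClosedImmersion (i ∣_ U₀.1)) (hfg : (RingHom.ker (i.app U₀.1).hom).FG)
    {r : ℕ} (a : Fin r → X.presheaf.stalk (i z))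
    (hker : RingHom.ker (i.stalkMap z).hom = Ideal.span (Set.range a))
    (hreg : IsRegular
      (X.presheaf.stalk (i z) ⧸ (IsLocalRing.maximalIdeal (S.presheaf.stalk (f (i z)))).map (f.stalkMap (i z)).hom)
      ((List.ofFn a).map (Ideal.Quotient.mk
        ((IsLocalRing.maximalIdeal (S.presheaf.stalk (f (i z)))).map (f.stalkMap (i z)).hom)))) :
    HasSliceChart f i z := by
  obtain ⟨V, U, hU, hx, hVU, s, hV, hs, -, hfl⟩ := GrothLib.FibreFlat.exists_slice f (i z) hflat a hreg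
  obtain ⟨U₁, hU₁, hz₁, hle⟩ :=
    exists_isAffineOpen_mem_and_subset (U := U ⊓ U₀.1) (x := i z) ⟨hx, hz⟩
  have e₀ : U₁ ≤ U₀.1 := fun a ha => (hle ha).2
  have eU : U₁ ≤ U := fun a ha => (hle ha).1
  obtain ⟨hci₁, hker₁⟩ := ker_res i U₀ hci hU₁ e₀
  let φ := (X.presheaf.map (homOfLE eU).op).hom
  letI : Algebra Γ(X, U₁) (X.presheaf.stalk (i z)) :=
    TopCat.Presheaf.algebra_section_stalk X.presheaf (⟨i z, hz₁⟩ : U₁)
  haveI := hU₁.isLocalization_stalk ⟨i z, hz₁⟩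
  obtain ⟨g, hg, hgeq⟩ := exists_away_eq_of_fg (hU₁.primeIdealOf ⟨i z, hz₁⟩).asIdeal.primeCompl
    (X.presheaf.stalk (i z)) (RingHom.ker (i.app U₁).hom) (Ideal.ofList (List.ofFn fun j => φ (s j)))
    (by rw [hker₁]; exact hfg.map _) (Submodule.fg_span (List.finite_toSet _)) (by
    show Ideal.map (X.presheaf.germ U₁ (i z) hz₁).hom _ = Ideal.map (X.presheaf.germ U₁ (i z) hz₁).hom _
    rw [← ker_stalkMap_eq_map i hU₁ hci₁ z hz₁, hker, Ideal.map_ofList, List.map_ofFn, Ideal.ofList]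
    congr 1
    ext x
    simp only [List.mem_ofFn, Set.mem_setOf_eq, Set.mem_range, Function.comp_apply, φ]
    simp only [TopCat.Presheaf.germ_res_apply, hs])
  have hzg : i z ∈ X.basicOpen g := by
    rw [Scheme.mem_basicOpen X g (i z) hz₁]
    exact (IsLocalization.AtPrime.isUnit_to_map_iff (X.presheaf.stalk (i z))
      (hU₁.primeIdealOf ⟨i z, hz₁⟩).asIdeal g).mpr hg
  let W := X.basicOpen g
  have hW : IsAffineOpen W := hU₁.basicOpen g
  obtain ⟨hciW, hkerW⟩ := ker_res i ⟨U₁, hU₁⟩ hci₁ hW (X.basicOpen_le g)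
  let ψ := (X.presheaf.map (homOfLE (X.basicOpen_le g)).op).hom
  have eWV : W ≤ f ⁻¹ᵁ V := fun a ha => hVU (eU (X.basicOpen_le g ha))
  refine ⟨⟨V, hV⟩, ⟨W, hW⟩, eWV, hzg, hciW, r, fun j => ψ (φ (s j)), ?_, ?_⟩
  · show RingHom.ker (i.app W).hom = _
    rw [hkerW, hgeq Γ(X, W) ψ (RingedSpace.isUnit_res_basicOpen _ g), Ideal.map_ofList, List.map_ofFn]
    rfl
  · letI := (f.appLE V U hVU).hom.toAlgebra
    have he : (letI := (f.appLE V W eWV).hom.toAlgebra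
        (MvPolynomial.aeval (R := Γ(S, V)) fun j => ψ (φ (s j))).toRingHom) =
        (ψ.comp φ).comp (MvPolynomial.aeval (R := Γ(S, V)) s).toRingHom := by
      refine MvPolynomial.ringHom_ext (fun t => ?_) fun j => ?_
      · letI := (f.appLE V W eWV).hom.toAlgebra
        show MvPolynomial.aeval (R := Γ(S, V)) (fun j => ψ (φ (s j))) (MvPolynomial.C t) = _
        rw [MvPolynomial.aeval_C, RingHom.comp_apply]
        show f.appLE V W eWV t = ψ (φ (MvPolynomial.aeval (R := Γ(S, V)) s (MvPolynomial.C t)))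
        rw [MvPolynomial.aeval_C]
        show f.appLE V W eWV t = ψ (φ (f.appLE V U hVU t))
        simp only [φ, ψ, ← CommRingCat.comp_apply, Scheme.Hom.appLE_map]
        rfl
      · simp
    exact he ▸ RingHom.Flat.comp hfl (RingHom.Flat.comp (flat_res hU hU₁ eU) (flat_res hU₁ hW (X.basicOpen_le g)))

/-- A slice chart gives a regular immersion at the point. -/
theorem regularAt_of_chart {f : X ⟶ S} {i : Z ⟶ X} {z : Z} (h : HasSliceChart f i z) :
    RegImm.IsRegularImmersionAt RegImm.Kind.regular i z := by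
  obtain ⟨V, U, e, hzU, hci, r, s, hker, hfl⟩ := h
  letI := (f.appLE V.1 U.1 e).hom.toAlgebra
  refine ⟨U, hzU, hci, _, ⟨GrothLib.FibreFlat.weaklyRegular_of_flat_aeval hfl, fun htop => ?_⟩, hker⟩
  rw [smul_eq_mul, Ideal.mul_top, ← hker] at htop
  exact ker_app_ne_top i z hzU htop.symm

set_option backward.isDefEq.respectTransparency false in
/-- A slice chart gives a regular immersion after every base change. -/
theorem regularAt_baseChange_of_chart {S' X' Z' : Scheme.{u}} {f : X ⟶ S} {i : Z ⟶ X} {g : S' ⟶ S}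
    {g₀ : X' ⟶ X} {f' : X' ⟶ S'} (H : IsPullback g₀ f' f g) {i' : Z' ⟶ X'} {g₁ : Z' ⟶ Z}
    (hsq : IsPullback g₁ i' i g₀) (y : Z') (h : HasSliceChart f i (g₁ y)) :
    RegImm.IsRegularImmersionAt RegImm.Kind.regular i' y := by
  obtain ⟨⟨V, hV⟩, ⟨U, hU⟩, hUV, hzU, hci, r, s, hker, hfl⟩ := h
  obtain ⟨T, hT, hyT, hTV⟩ := exists_isAffineOpen_mem_and_subset (U := g ⁻¹ᵁ V) (x := f' (i' y)) (by
    show g (f' (i' y)) ∈ V
    rw [← Scheme.Hom.comp_apply, ← H.w, Scheme.Hom.comp_apply, ← Scheme.Hom.comp_apply _ g₀, ← hsq.w,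
      Scheme.Hom.comp_apply]
    exact hUV hzU)
  haveI : IsAffine V.toScheme := hV
  haveI : IsAffine U.toScheme := hU
  haveI : IsAffine T.toScheme := hT
  have hpo := (isIso_pushoutSection_iff H hTV hUV rfl).1
    (isIso_pushoutSection_of_isAffineOpen H hTV hUV rfl hV hT hU)
  have hW : IsAffineOpen (g₀ ⁻¹ᵁ U ⊓ f' ⁻¹ᵁ T) :=
    .of_isIso (Scheme.Hom.isPullback_resLE H hTV hUV rfl).isoPullback.hom
  obtain ⟨hci', hker'⟩ := GrothLib.RegSeqLoc.ker_of_isPullback hsq ⟨U, hU⟩ hci hW inf_le_left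
  rw [hker, Ideal.map_ofList] at hker'
  have hyW : i' y ∈ g₀ ⁻¹ᵁ U ⊓ f' ⁻¹ᵁ T := ⟨by
    show g₀ (i' y) ∈ U
    rw [← Scheme.Hom.comp_apply, ← hsq.w, Scheme.Hom.comp_apply]
    exact hzU, hyT⟩
  letI : Algebra Γ(S, V) Γ(X, U) := (f.appLE V U hUV).hom.toAlgebra
  letI : Algebra Γ(S, V) Γ(S', T) := (g.appLE V T hTV).hom.toAlgebra
  letI : Algebra Γ(X, U) Γ(X', g₀ ⁻¹ᵁ U ⊓ f' ⁻¹ᵁ T) :=
    (g₀.appLE U (g₀ ⁻¹ᵁ U ⊓ f' ⁻¹ᵁ T) inf_le_left).hom.toAlgebra
  letI : Algebra Γ(S', T) Γ(X', g₀ ⁻¹ᵁ U ⊓ f' ⁻¹ᵁ T) :=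
    (f'.appLE T (g₀ ⁻¹ᵁ U ⊓ f' ⁻¹ᵁ T) inf_le_right).hom.toAlgebra
  letI : Algebra Γ(S, V) Γ(X', g₀ ⁻¹ᵁ U ⊓ f' ⁻¹ᵁ T) :=
    ((g₀.appLE U (g₀ ⁻¹ᵁ U ⊓ f' ⁻¹ᵁ T) inf_le_left).hom.comp (f.appLE V U hUV).hom).toAlgebra
  haveI : IsScalarTower Γ(S, V) Γ(X, U) Γ(X', g₀ ⁻¹ᵁ U ⊓ f' ⁻¹ᵁ T) := IsScalarTower.of_algebraMap_eq fun _ => rfl
  haveI : IsScalarTower Γ(S, V) Γ(S', T) Γ(X', g₀ ⁻¹ᵁ U ⊓ f' ⁻¹ᵁ T) :=
    IsScalarTower.of_algebraMap_eq fun t => congr($(hpo.w).hom t)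
  haveI : Algebra.IsPushout Γ(S, V) Γ(X, U) Γ(S', T) Γ(X', g₀ ⁻¹ᵁ U ⊓ f' ⁻¹ᵁ T) :=
    CommRingCat.isPushout_iff_isPushout.mp hpo
  have hwr := GrothLib.FibreFlat.weaklyRegular_pushout (R' := Γ(S', T))
    (B := Γ(X', g₀ ⁻¹ᵁ U ⊓ f' ⁻¹ᵁ T)) hfl
  refine ⟨⟨_, hW⟩, hyW, hci', _, ⟨hwr, fun htop => ?_⟩, hker'⟩
  rw [smul_eq_mul, Ideal.mul_top] at htop
  exact ker_app_ne_top i' y hyW (hker'.trans htop.symm)

end GrothLib.RelReg
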