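import Groth.Agent.Lib.RegSeqLoc.AnyBaseChange
import Mathlib.AlgebraicGeometry.Morphisms.Flat
import Mathlib.RingTheory.Filtration

/-!
# H₁-regular and quasi-regular immersions at stalks; relative ones give flatness at Noetherian stalks
-/

set_option autoImplicit false
set_option linter.all false
universe u

open CategoryTheory Limits AlgebraicGeometry TopologicalSpace IsLocalRing
open scoped TensorProduct

namespace GrothLib.RelReg

variable {X Z S : Scheme.{u}}

theorem flat_germ {U : X.Opens} (hU : IsAffineOpen U) {x : X} (hx : x ∈ U) :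
    (X.presheaf.germ U x hx).hom.Flat := by
  letI : Algebra Γ(X, U) (X.presheaf.stalk x) := TopCat.Presheaf.algebra_section_stalk X.presheaf (⟨x, hx⟩ : U)
  haveI := hU.isLocalization_stalk ⟨x, hx⟩
  exact RingHom.flat_algebraMap_iff.mpr
    (IsLocalization.flat (X.presheaf.stalk x) (hU.primeIdealOf ⟨x, hx⟩).asIdeal.primeCompl)

/-- The ideal of an immersion at a stalk is the extension of its ideal on an affine open where it is closed. -/
theorem ker_stalkMap_eq_map (i : Z ⟶ X) {U : X.Opens} (hU : IsAffineOpen U) (hci : IsClosedImmersion (i ∣_ U))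
    (z : Z) (hz : i z ∈ U) :
    RingHom.ker (i.stalkMap z).hom = (RingHom.ker (i.app U).hom).map (X.presheaf.germ U (i z) hz).hom := by
  obtain ⟨hsurj, hV⟩ := GrothLib.RegSeqLoc.app_surjective_of_restrict i hU hci
  refine le_antisymm (fun r hr => ?_) (Ideal.map_le_iff_le_comap.mpr fun a ha => ?_)
  · letI : Algebra Γ(X, U) (X.presheaf.stalk (i z)) :=
      TopCat.Presheaf.algebra_section_stalk X.presheaf (⟨i z, hz⟩ : U)
    haveI := hU.isLocalization_stalk ⟨i z, hz⟩
    letI : Algebra Γ(Z, i ⁻¹ᵁ U) (Z.presheaf.stalk z) :=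
      TopCat.Presheaf.algebra_section_stalk Z.presheaf (⟨z, hz⟩ : (i ⁻¹ᵁ U : Z.Opens))
    haveI := hV.isLocalization_stalk ⟨z, hz⟩
    obtain ⟨⟨a, s⟩, has⟩ := IsLocalization.surj (hU.primeIdealOf ⟨i z, hz⟩).asIdeal.primeCompl r
    have hs : IsUnit (algebraMap Γ(X, U) (X.presheaf.stalk (i z)) s.1) := IsLocalization.map_units _ s
    have h0 : algebraMap Γ(Z, i ⁻¹ᵁ U) (Z.presheaf.stalk z) (i.app U a) =
        algebraMap Γ(Z, i ⁻¹ᵁ U) (Z.presheaf.stalk z) 0 := by
      rw [map_zero]
      show Z.presheaf.germ (i ⁻¹ᵁ U) z hz (i.app U a) = 0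
      erw [← Scheme.Hom.germ_stalkMap_apply, ← has]
      exact (map_mul (i.stalkMap z).hom _ _).trans (by rw [RingHom.mem_ker.mp hr, zero_mul])
    obtain ⟨⟨c, hc⟩, hca⟩ := (IsLocalization.eq_iff_exists
      (hV.primeIdealOf ⟨z, hz⟩).asIdeal.primeCompl _).mp h0
    obtain ⟨c', rfl⟩ := hsurj c
    have hcu : IsUnit (algebraMap Γ(X, U) (X.presheaf.stalk (i z)) c') := by
      have h1 : IsUnit (Z.presheaf.germ (i ⁻¹ᵁ U) z hz (i.app U c')) :=
        IsLocalization.map_units (Z.presheaf.stalk z)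
          (⟨(i.app U).hom c', hc⟩ : (hV.primeIdealOf ⟨z, hz⟩).asIdeal.primeCompl)
      erw [← Scheme.Hom.germ_stalkMap_apply] at h1
      exact (isUnit_map_iff (i.stalkMap z).hom _).mp h1
    have hker : c' * a ∈ RingHom.ker (i.app U).hom := by
      rw [RingHom.mem_ker, map_mul]
      exact hca.trans (mul_zero _)
    rw [← Ideal.mul_unit_mem_iff_mem _ (hs.mul hcu)]
    have : r * (algebraMap Γ(X, U) (X.presheaf.stalk (i z)) s.1 * algebraMap _ _ c') =
        algebraMap Γ(X, U) (X.presheaf.stalk (i z)) (c' * a) := by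
      rw [← mul_assoc, has, map_mul, mul_comm]
    rw [this]
    exact Ideal.mem_map_of_mem _ hker
  · rw [Ideal.mem_comap, RingHom.mem_ker]
    refine (Scheme.Hom.germ_stalkMap_apply i U z hz a).trans ?_
    rw [show i.app U a = 0 from ha, map_zero]

/-- Equations at a stalk for properties of sequences stable under flat maps. -/
theorem exists_stalk_equations (i : Z ⟶ X) (z : Z) (k : RegImm.Kind)
    (hk : k = RegImm.Kind.h1 ∨ k = RegImm.Kind.quasi) (hi : RegImm.IsRegularImmersionAt k i z) :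
    ∃ (r : ℕ) (a : Fin r → X.presheaf.stalk (i z)),
      (k = RegImm.Kind.h1 → CAlgX.IsH1Regular a) ∧ CAlgX.IsQuasiRegular a ∧
        RingHom.ker (i.stalkMap z).hom = Ideal.span (Set.range a) := by
  obtain ⟨U, hz, hci, rs, hrs, hI⟩ := hi
  let φ := (X.presheaf.germ U.1 (i z) hz).hom
  have hq : CAlgX.IsQuasiRegular (φ ∘ rs.get) := by
    rcases hk with rfl | rfl
    · exact GrothLib.SeqKinds.isQuasiRegular_of_isH1Regular _
        (GrothLib.SeqKinds.isH1Regular_map φ (flat_germ U.2 hz) _ hrs)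
    · exact GrothLib.SeqKinds.isQuasiRegular_map φ (flat_germ U.2 hz) _ hrs
  refine ⟨rs.length, φ ∘ rs.get, ?_, hq, ?_⟩
  · rintro rfl
    exact GrothLib.SeqKinds.isH1Regular_map φ (flat_germ U.2 hz) _ hrs
  · rw [ker_stalkMap_eq_map i U.2 hci z hz, hI, Ideal.map_ofList, Ideal.ofList, Set.range_comp,
      Set.range_list_get]
    congr 1
    ext a
    simp [φ]

/-- The quotient of a stalk by the ideal of an immersion flat over the base is flat over the base. -/
theorem flat_quot_ker_stalkMap (f : X ⟶ S) (i : Z ⟶ X) [IsImmersion i] [Flat (i ≫ f)] (z : Z) :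
    ((Ideal.Quotient.mk (RingHom.ker (i.stalkMap z).hom)).comp (f.stalkMap (i z)).hom).Flat := by
  have hsurj : Function.Surjective (i.stalkMap z).hom := SurjectiveOnStalks.stalkMap_surjective i z
  let e := RingHom.quotientKerEquivOfSurjective hsurj
  have hfl : ((i ≫ f).stalkMap z).hom.Flat := Flat.stalkMap (i ≫ f) z
  rw [Scheme.Hom.stalkMap_comp] at hfl
  have he : (Ideal.Quotient.mk (RingHom.ker (i.stalkMap z).hom)).comp (f.stalkMap (i z)).hom =
      e.symm.toRingHom.comp ((i.stalkMap z).hom.comp (f.stalkMap (i z)).hom) := by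
    refine RingHom.ext fun a => e.injective ?_
    show (i.stalkMap z).hom _ = e (e.symm _)
    rw [e.apply_symm_apply]
    rfl
  rw [he]
  exact hfl.comp (RingHom.Flat.of_bijective e.symm.bijective)

/-- `A` Noetherian local, `J ≤ 𝔪` generated by a quasi-regular sequence, `A/J` flat over `R`: `A` is flat over `R`. -/
theorem flat_of_quasiRegular {R A : Type u} [CommRing R] [CommRing A] [Algebra R A] [IsLocalRing A]
    [IsNoetherianRing A] {c : ℕ} (f : Fin c → A) (hle : Ideal.span (Set.range f) ≤ maximalIdeal A)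
    [Module.Flat R (A ⧸ Ideal.span (Set.range f))] (hf : CAlgX.IsQuasiRegular f) : Module.Flat R A := by
  rw [Module.Flat.iff_lTensor_injective]
  intro I hI
  set J := Ideal.span (Set.range f)
  haveI : Module.Finite R I := Module.Finite.of_fg hI
  rw [injective_iff_map_eq_zero]
  intro t ht
  have hmem : ∀ n, t ∈ (J ^ n • ⊤ : Submodule A (A ⊗[R] I)) := by
    intro n
    haveI := GrothLib.SeqKinds.flat_quot_pow (R := R) f hf n
    let q : A →ₗ[R] A ⧸ J ^ n := (Ideal.Quotient.mkₐ R (J ^ n)).toLinearMap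
    have h0 : q.rTensor I t = 0 := by
      refine Module.Flat.lTensor_preserves_injective_linearMap (M := A ⧸ J ^ n) I.subtype
        Subtype.val_injective ?_
      rw [map_zero, ← LinearMap.comp_apply, LinearMap.lTensor_comp_rTensor,
        ← LinearMap.rTensor_comp_lTensor, LinearMap.comp_apply, ht, map_zero]
    obtain ⟨w, rfl⟩ := (rTensor_exact I (f := (J ^ n).subtype.restrictScalars R) (g := q)
      (fun a => ⟨fun h => ⟨⟨a, Ideal.Quotient.eq_zero_iff_mem.mp h⟩, rfl⟩,
        fun ⟨x, hx⟩ => hx ▸ Ideal.Quotient.eq_zero_iff_mem.mpr x.2⟩) Ideal.Quotient.mk_surjective t).mp h0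
    clear ht h0
    induction w using TensorProduct.induction_on with
    | zero => rw [map_zero]; exact zero_mem _
    | tmul a y =>
      rw [LinearMap.rTensor_tmul]
      have : ((a : A) ⊗ₜ[R] y : A ⊗[R] I) = (a : A) • ((1 : A) ⊗ₜ[R] y) := by
        rw [TensorProduct.smul_tmul', smul_eq_mul, mul_one]
      show ((a : A) ⊗ₜ[R] y : A ⊗[R] I) ∈ _
      rw [this]
      exact Submodule.smul_mem_smul a.2 Submodule.mem_top
    | add x y hx hy => rw [map_add]; exact add_mem hx hy
  have hbot : (⨅ n : ℕ, J ^ n • ⊤ : Submodule A (A ⊗[R] I)) = ⊥ :=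
    Ideal.iInf_pow_smul_eq_bot_of_le_jacobson J (hle.trans (maximalIdeal_le_jacobson _))
  exact (Submodule.mem_bot A).mp (hbot.le (Submodule.mem_iInf _ |>.mpr hmem))

end GrothLib.RelReg
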