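import Groth.Agent.Lib.RelReg.H1Flat
import Groth.Agent.Lib.FibreFlat.OpenScheme
import Groth.Agent.Lib.RegSeqLoc.AnyBaseChange

/-!
# Relative H₁-regular immersions into schemes locally of finite presentation: flatness along the subscheme
-/

set_option autoImplicit false
set_option linter.all false
universe u

open CategoryTheory Limits AlgebraicGeometry TopologicalSpace

namespace GrothLib.RelReg

variable {X Z S : Scheme.{u}}

set_option backward.isDefEq.respectTransparency false in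
theorem flat_stalkMap_of_h1 (f : X ⟶ S) [LocallyOfFinitePresentation f] (i : Z ⟶ X)
    (hi : RegImm.IsRelRegularImmersion RegImm.Kind.h1 f i) (z : Z) : (f.stalkMap (i z)).hom.Flat := by
  haveI : IsImmersion i := hi.1.1
  haveI : Flat (i ≫ f) := hi.2
  obtain ⟨U, hzU, hci, rs, hrs, hI⟩ := hi.1.2 z
  obtain ⟨W, hW, hzW, -⟩ := exists_isAffineOpen_mem_and_subset (Opens.mem_top (f (i z)))
  obtain ⟨U₁, hU₁, hzU₁, hle⟩ :=
    exists_isAffineOpen_mem_and_subset (U := U.1 ⊓ f ⁻¹ᵁ W) (x := i z) ⟨hzU, hzW⟩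
  have e₁ : U₁ ≤ (𝟙 X) ⁻¹ᵁ U.1 := fun a ha => (hle ha).1
  obtain ⟨hci₁, hker₁⟩ := GrothLib.RegSeqLoc.ker_of_isPullback (g := 𝟙 X) (i' := i) (g' := 𝟙 Z)
    (IsPullback.of_horiz_isIso ⟨by simp⟩) U hci hU₁ e₁
  have hUW : U₁ ≤ f ⁻¹ᵁ W := fun a ha => (hle ha).2
  have hφ : ((𝟙 X : X ⟶ X).appLE U.1 U₁ e₁).hom.Flat :=
    HasRingHomProperty.appLE (P := @Flat) (𝟙 X) inferInstance U ⟨U₁, hU₁⟩ e₁
  set φ := ((𝟙 X : X ⟶ X).appLE U.1 U₁ e₁).hom
  rw [hI, Ideal.map_ofList] at hker₁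
  have hspan : Ideal.span (Set.range ((φ ∘ rs.get) : Fin rs.length → Γ(X, U₁))) = RingHom.ker (i.app U₁).hom := by
    rw [hker₁, Ideal.ofList]
    congr 1
    ext a
    rw [Set.range_comp, Set.range_list_get]
    simp
  have hflat : ((Ideal.Quotient.mk (RingHom.ker (i.app U₁).hom)).comp (f.appLE W U₁ hUW).hom).Flat := by
    obtain ⟨hsurj, hpre⟩ := GrothLib.RegSeqLoc.app_surjective_of_restrict i hU₁ hci₁
    have hfl := HasRingHomProperty.appLE (P := @Flat) (i ≫ f) inferInstance ⟨W, hW⟩ ⟨i ⁻¹ᵁ U₁, hpre⟩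
      (fun a ha => hUW ha)
    let e := RingHom.quotientKerEquivOfSurjective hsurj
    have he : (Ideal.Quotient.mk (RingHom.ker (i.app U₁).hom)).comp (f.appLE W U₁ hUW).hom =
        e.symm.toRingHom.comp ((i ≫ f).appLE W (i ⁻¹ᵁ U₁) (fun a ha => hUW ha)).hom := by
      refine RingHom.ext fun a => e.injective ?_
      show i.app U₁ (f.appLE W U₁ hUW a) = e (e.symm _)
      rw [e.apply_symm_apply]
      rw [← Scheme.Hom.appLE_eq_app, ← CommRingCat.comp_apply]
      erw [Scheme.Hom.appLE_comp_appLE]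
    rw [he]
    exact hfl.comp (RingHom.Flat.of_bijective e.symm.bijective)
  rw [← hspan] at hflat
  have hfp := f.finitePresentation_appLE hW hU₁ hUW
  algebraize [(f.appLE W U₁ hUW).hom]
  haveI : Module.Flat Γ(S, W) (Γ(X, U₁) ⧸ Ideal.span (Set.range ((φ ∘ rs.get) : Fin rs.length → Γ(X, U₁)))) :=
    RingHom.flat_algebraMap_iff.mp hflat
  let p := (hW.primeIdealOf ⟨f (i z), hUW hzU₁⟩).asIdeal
  let q := (hU₁.primeIdealOf ⟨i z, hzU₁⟩).asIdeal
  have hmem : ∀ j, (φ ∘ rs.get) j ∈ q := by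
    intro j
    letI : Algebra Γ(X, U₁) (X.presheaf.stalk (i z)) :=
      TopCat.Presheaf.algebra_section_stalk X.presheaf (⟨i z, hzU₁⟩ : U₁)
    haveI := hU₁.isLocalization_stalk ⟨i z, hzU₁⟩
    refine (IsLocalization.AtPrime.to_map_mem_maximal_iff (X.presheaf.stalk (i z)) q _).mp ?_
    refine IsLocalRing.le_maximalIdeal (RingHom.ker_ne_top (i.stalkMap z).hom) ?_
    rw [ker_stalkMap_eq_map i hU₁ hci₁ z hzU₁, ← hspan]
    exact Ideal.mem_map_of_mem _ (Ideal.subset_span ⟨j, rfl⟩)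
  have h := flat_atPrime_of_isH1Regular (R := Γ(S, W)) (φ ∘ rs.get)
    (GrothLib.SeqKinds.isH1Regular_map φ hφ _ hrs) q hmem
  haveI : q.LiesOver p := ⟨congr($(IsAffineOpen.comap_primeIdealOf_appLE W hW U₁ hU₁ hUW hzU₁).1).symm⟩
  letI := Localization.AtPrime.algebraOfLiesOver p q
  have h2 : Module.Flat (Localization.AtPrime p) (Localization.AtPrime q) :=
    (Module.flat_iff_of_isLocalization (Localization.AtPrime p) p.primeCompl (Localization.AtPrime q)).mpr h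
  exact (RingHom.Flat.respectsIso.arrow_mk_iso_iff
    (IsAffineOpen.arrowStalkMapIso f W hW U₁ hU₁ hUW hzU₁)).mpr (RingHom.flat_algebraMap_iff.mpr h2)

theorem flat_ι_comp (f : X ⟶ S) (U : X.Opens) (h : ∀ x : X, x ∈ U → (f.stalkMap x).hom.Flat) : Flat (U.ι ≫ f) := by
  rw [Flat.iff_flat_stalkMap]
  intro x
  haveI : IsIso (U.ι.stalkMap x) := inferInstance
  rw [Scheme.Hom.stalkMap_comp]
  exact RingHom.Flat.comp (h (U.ι x) (by simpa using x.2))
    (RingHom.Flat.of_bijective (ConcreteCategory.bijective_of_isIso (U.ι.stalkMap x)))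

/-- The flat locus as an open subscheme flat over the base. -/
theorem exists_flat_open (f : X ⟶ S) [LocallyOfFinitePresentation f] :
    ∃ U : X.Opens, (∀ x, (f.stalkMap x).hom.Flat → x ∈ U) ∧ Flat (U.ι ≫ f) :=
  ⟨⟨_, GrothLib.FibreFlat.isOpen_flat_stalkMap f⟩, fun x hx => hx, flat_ι_comp f _ fun x hx => hx⟩

end GrothLib.RelReg
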