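import Groth.Agent.Lib.RelReg.Stalk
import Groth.Agent.Lib.SeqKinds.BaseChange
import Groth.Agent.Lib.FlatLimit.Global
import Groth.Agent.Lib.FlatLimit.Vanish
import Mathlib.RingTheory.Extension.Presentation.Core
import Mathlib.RingTheory.Flat.Localization
import Mathlib.RingTheory.FiniteStability

/-!
# H₁-regular sequences with flat quotient: the algebra is flat along them

For a finitely presented `R`-algebra `A` and an H₁-regular sequence `f` with `A/(f)` flat over `R`, the local rings
of `A` at primes containing `(f)` are flat over `R` (no Noetherian hypothesis).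
-/

set_option autoImplicit false
set_option linter.all false
universe u

open TensorProduct Function IsLocalRing GrothLib.SeqKinds

namespace GrothLib.RelReg

section Relations

variable {R A : Type u} [CommRing R] [CommRing A] [Algebra R A] (R' : Type u) [CommRing R'] [Algebra R R']
  {c : ℕ} (f : Fin c → A)

/-- Relations of `f`. -/
noncomputable def relMap : (Fin c → A) →ₗ[A] A := ∑ i, f i • LinearMap.proj i

theorem relMap_apply (v : Fin c → A) : relMap f v = ∑ i, v i * f i := by
  simp [relMap, mul_comm]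

/-- The trivial relations. -/
abbrev trivial₁ : Submodule A (Fin c → A) :=
  Submodule.span A {v : Fin c → A | ∃ i j : Fin c, v = Pi.single i (f j) - Pi.single j (f i)}

/-- The map `(R' ⊗ A)ᶜ → R' ⊗ (Aᶜ / trivial relations)`. -/
noncomputable def toQuot (v : Fin c → R' ⊗[R] A) : R' ⊗[R] ((Fin c → A) ⧸ trivial₁ f) :=
  ∑ j, (((trivial₁ f).mkQ.restrictScalars R).comp (LinearMap.single R (fun _ : Fin c => A) j)).lTensor R' (v j)

theorem toQuot_add (v w : Fin c → R' ⊗[R] A) : toQuot R' f (v + w) = toQuot R' f v + toQuot R' f w := by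
  simp [toQuot, Finset.sum_add_distrib]

theorem toQuot_tmul (r : R') (v : Fin c → A) :
    toQuot R' f (fun j => r ⊗ₜ[R] v j) = r ⊗ₜ[R] (trivial₁ f).mkQ v := by
  simp only [toQuot, LinearMap.lTensor_tmul, LinearMap.comp_apply, LinearMap.restrictScalars_apply, ← tmul_sum]
  rw [← map_sum]
  congr 2
  exact LinearMap.sum_single_apply (fun _ : Fin c => A) v

theorem toQuot_eq_zero {v : Fin c → R' ⊗[R] A}
    (hv : v ∈ trivial₁ fun i => bcHom (R := R) R' (f i)) (s : R' ⊗[R] A) : toQuot R' f (s • v) = 0 := by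
  induction hv using Submodule.span_induction generalizing s with
  | mem v hv =>
    obtain ⟨i, j, rfl⟩ := hv
    induction s using TensorProduct.induction_on with
    | zero => simp [toQuot]
    | add a b ha hb => rw [add_smul, toQuot_add, ha, hb, add_zero]
    | tmul r x =>
      have e : (r ⊗ₜ[R] x) • (Pi.single i (bcHom (R := R) R' (f j)) - Pi.single j (bcHom (R := R) R' (f i)) :
          Fin c → R' ⊗[R] A) = fun l => r ⊗ₜ[R] (x • (Pi.single i (f j) - Pi.single j (f i)) : Fin c → A) l := by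
        funext l
        simp only [Pi.smul_apply, Pi.sub_apply, smul_eq_mul, mul_sub, Pi.single_apply, mul_ite, mul_zero,
          tmul_sub]
        congr 1 <;> split_ifs <;> simp [Algebra.TensorProduct.tmul_mul_tmul]
      rw [e, toQuot_tmul, map_smul,
        show (trivial₁ f).mkQ (Pi.single i (f j) - Pi.single j (f i)) = 0 from
          (Submodule.Quotient.mk_eq_zero _).mpr (Submodule.subset_span ⟨i, j, rfl⟩), smul_zero, tmul_zero]
  | zero => simp [toQuot]
  | add v w _ _ hv hw => rw [smul_add, toQuot_add, hv, hw, add_zero]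
  | smul r v _ hv => rw [smul_smul]; exact hv _

/-- If `f` becomes H₁-regular in `R' ⊗ A`, relations of `f` die in `R' ⊗ (Aᶜ / trivial relations)`. -/
theorem tmul_mkQ_eq_zero (hf : CAlgX.IsH1Regular fun i => bcHom (R := R) R' (f i)) {v : Fin c → A}
    (hv : ∑ i, v i * f i = 0) : (1 : R') ⊗ₜ[R] (trivial₁ f).mkQ v = 0 := by
  rw [← toQuot_tmul]
  have h : (fun j => bcHom (R := R) R' (v j)) ∈ trivial₁ fun i => bcHom (R := R) R' (f i) :=
    hf _ (by simp only [← map_mul, ← map_sum, hv, map_zero])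
  have := toQuot_eq_zero R' f h 1
  rwa [one_smul] at this

/-- With flat quotient, H₁-regularity after base change only concerns the relations of `f`. -/
theorem isH1Regular_baseChange_of [Module.Flat R (A ⧸ Ideal.span (Set.range f))]
    (hf : ∀ v : Fin c → A, ∑ i, v i * f i = 0 → (1 : R') ⊗ₜ[R] (trivial₁ f).mkQ v = 0) :
    CAlgX.IsH1Regular (fun i => bcHom (R := R) R' (f i)) := by
  classical
  intro b hb
  set J := Ideal.span (Set.range f)
  have hmem : ∀ i, f i ∈ J := fun i => Ideal.subset_span ⟨i, rfl⟩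
  have hfmem : ∀ x : Fin c → A, ∑ i, x i * f i ∈ J := fun x =>
    Ideal.sum_mem _ fun i _ => J.mul_mem_left _ (hmem i)
  let δ : (Fin c → A) →ₗ[R] J :=
    { toFun := fun x => ⟨∑ i, x i * f i, hfmem x⟩
      map_add' := fun x y => Subtype.ext (by simp [add_mul, Finset.sum_add_distrib])
      map_smul' := fun r x => Subtype.ext (by simp [Finset.smul_sum]) }
  have hδsurj : Function.Surjective δ := fun x => by
    obtain ⟨a, ha⟩ := (Submodule.mem_span_range_iff_exists_fun A).mp x.2
    exact ⟨a, Subtype.ext ha⟩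
  let u : R' ⊗[R] (Fin c → A) := ∑ i, (LinearMap.single R (fun _ : Fin c => A) i).lTensor R' (b i)
  have hu : δ.lTensor R' u = 0 := by
    refine injective_lTensor_ideal R' J ?_
    rw [map_zero, map_sum, map_sum, ← hb]
    refine Finset.sum_congr rfl fun i _ => ?_
    rw [← LinearMap.comp_apply, ← LinearMap.comp_apply, ← LinearMap.lTensor_comp, ← LinearMap.lTensor_comp,
      ← lTensor_mulRight]
    congr 2
    refine LinearMap.ext fun a => ?_
    show ∑ l, (Pi.single i a : Fin c → A) l * f l = a * f i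
    rw [Fintype.sum_eq_single i (fun l hl => by simp [hl])]
    simp
  have hex : Function.Exact (LinearMap.ker δ).subtype δ := LinearMap.exact_subtype_ker_map δ
  obtain ⟨w, hw⟩ := (lTensor_exact R' hex hδsurj u).mp hu
  have hproj : ∀ j, (LinearMap.proj j).lTensor R' u = b j := by
    intro j
    rw [map_sum, Finset.sum_eq_single j]
    · rw [← LinearMap.comp_apply, ← LinearMap.lTensor_comp, LinearMap.proj_comp_single_same, LinearMap.lTensor_id]
      rfl
    · intro i _ hij
      rw [← LinearMap.comp_apply, ← LinearMap.lTensor_comp, LinearMap.proj_comp_single_ne R _ j i (Ne.symm hij),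
        LinearMap.lTensor_zero]
      rfl
    · simp
  have hb' : b = fun j => (LinearMap.proj j).lTensor R' ((LinearMap.ker δ).subtype.lTensor R' w) :=
    funext fun j => by rw [hw, hproj]
  rw [hb']
  clear hw hb'
  have hstep : ∀ k : LinearMap.ker δ, (fun j => bcHom (R := R) R' (k.1 j)) ∈
      trivial₁ fun i => bcHom (R := R) R' (f i) := by
    intro k
    have hk : ∑ i, k.1 i * f i = 0 := congrArg Subtype.val (LinearMap.mem_ker.mp k.2)
    obtain ⟨t, ht⟩ := (lTensor_exact R' (f := (trivial₁ f).subtype.restrictScalars R)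
      (g := (trivial₁ f).mkQ.restrictScalars R) (LinearMap.exact_subtype_mkQ _)
      (Submodule.mkQ_surjective _) ((1 : R') ⊗ₜ[R] k.1)).mp (hf _ hk)
    have : (fun j => bcHom (R := R) R' (k.1 j)) =
        fun j => (LinearMap.proj j).lTensor R' (((trivial₁ f).subtype.restrictScalars R).lTensor R' t) := by
      funext j; rw [ht]; rfl
    rw [this]
    clear this ht
    induction t using TensorProduct.induction_on with
    | zero => convert Submodule.zero_mem _; simp
    | tmul r v =>
      convert Submodule.smul_mem _ (r ⊗ₜ[R] (1 : A)) (map_mem_triv R' f v.2) using 1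
      funext j
      simp [Algebra.TensorProduct.tmul_mul_tmul]
    | add x y hx hy => convert add_mem hx hy using 1; funext j; simp
  induction w using TensorProduct.induction_on with
  | zero => convert Submodule.zero_mem _; simp
  | tmul r k =>
    convert Submodule.smul_mem _ (r ⊗ₜ[R] (1 : A)) (hstep k) using 1
    funext j
    simp [Algebra.TensorProduct.tmul_mul_tmul]
  | add x y hx hy => convert add_mem hx hy using 1; funext j; simp

end Relations

/-- Flatness at a prime is stable under base change. -/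
theorem flat_atPrime_baseChange {S R B : Type u} [CommRing S] [CommRing R] [CommRing B] [Algebra S R] [Algebra S B]
    (p : Ideal (R ⊗[S] B)) [p.IsPrime]
    (h : Module.Flat S (Localization.AtPrime (p.comap (bcHom (R := S) R : B →+* R ⊗[S] B)))) :
    Module.Flat R (Localization.AtPrime p) := by
  let q := p.comap (bcHom (R := S) R : B →+* R ⊗[S] B)
  let T := R ⊗[S] Localization.AtPrime q
  let i : R ⊗[S] B →ₐ[R] T :=
    Algebra.TensorProduct.map (AlgHom.id R R) (IsScalarTower.toAlgHom S B (Localization.AtPrime q))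
  letI : Algebra (R ⊗[S] B) (Localization.AtPrime p) := inferInstance
  let κ : B →ₐ[S] Localization.AtPrime p :=
    ((IsScalarTower.toAlgHom R (R ⊗[S] B) (Localization.AtPrime p)).restrictScalars S).comp
      Algebra.TensorProduct.includeRight
  have hκ : ∀ t : q.primeCompl, IsUnit (κ (t : B)) := fun t =>
    IsLocalization.map_units (Localization.AtPrime p) (⟨bcHom (R := S) R (t : B), t.2⟩ : p.primeCompl)
  let κ' : Localization.AtPrime q →ₐ[S] Localization.AtPrime p := IsLocalization.liftAlgHom hκ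
  let ψ : T →ₐ[R] Localization.AtPrime p :=
    Algebra.TensorProduct.lift (Algebra.ofId R _) κ' fun _ _ => Commute.all _ _
  have hψi : ∀ a, ψ (i a) = algebraMap (R ⊗[S] B) (Localization.AtPrime p) a := by
    intro a
    induction a using TensorProduct.induction_on with
    | zero => simp
    | add a b ha hb => simp only [map_add, ha, hb]
    | tmul r b =>
      show algebraMap R _ r * κ' (algebraMap B (Localization.AtPrime q) b) = _
      rw [show κ' (algebraMap B (Localization.AtPrime q) b) = κ b from IsLocalization.lift_eq _ _]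
      show algebraMap R (Localization.AtPrime p) r * algebraMap (R ⊗[S] B) _ ((1 : R) ⊗ₜ[S] b) = _
      rw [IsScalarTower.algebraMap_apply R (R ⊗[S] B), ← map_mul, Algebra.TensorProduct.algebraMap_apply,
        Algebra.TensorProduct.tmul_mul_tmul, one_mul, mul_one]
      rfl
  have hsurj : ∀ y : T, ∃ t : q.primeCompl, ∃ a : R ⊗[S] B, i (1 ⊗ₜ (t : B)) * y = i a := by
    intro y
    induction y using TensorProduct.induction_on with
    | zero => exact ⟨1, 0, by simp⟩
    | tmul r x =>
      obtain ⟨⟨b, t⟩, hbt⟩ := IsLocalization.surj q.primeCompl x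
      refine ⟨t, r ⊗ₜ b, ?_⟩
      show ((1 : R) ⊗ₜ[S] algebraMap B (Localization.AtPrime q) t) * (r ⊗ₜ[S] x) =
        r ⊗ₜ[S] algebraMap B (Localization.AtPrime q) b
      rw [Algebra.TensorProduct.tmul_mul_tmul, one_mul, mul_comm, hbt]
    | add x y hx hy =>
      obtain ⟨t, a, ha⟩ := hx
      obtain ⟨t', a', ha'⟩ := hy
      refine ⟨t * t', (1 ⊗ₜ (t' : B)) * a + (1 ⊗ₜ (t : B)) * a', ?_⟩
      rw [map_add, map_mul, map_mul, ← ha, ← ha', Submonoid.coe_mul,
        show ((1 : R) ⊗ₜ[S] ((t : B) * t')) = ((1 : R) ⊗ₜ[S] (t : B)) * ((1 : R) ⊗ₜ[S] (t' : B)) by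
          rw [Algebra.TensorProduct.tmul_mul_tmul, one_mul], map_mul]
      ring
  letI : Algebra T (Localization.AtPrime p) := ψ.toRingHom.toAlgebra
  haveI : IsScalarTower R T (Localization.AtPrime p) :=
    IsScalarTower.of_algebraMap_eq fun r => (ψ.commutes r).symm
  haveI : IsLocalization (p.primeCompl.map (i : R ⊗[S] B →+* T)) (Localization.AtPrime p) := by
    refine ⟨fun ⟨y, a, ha, hy⟩ => ?_, fun z => ?_, fun {x y} hxy => ?_⟩
    · subst hy
      show IsUnit (ψ (i a))
      rw [hψi]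
      exact IsLocalization.map_units _ (⟨a, ha⟩ : p.primeCompl)
    · obtain ⟨⟨a, s⟩, has⟩ := IsLocalization.surj p.primeCompl z
      refine ⟨⟨i a, ⟨i s, s.1, s.2, rfl⟩⟩, ?_⟩
      show z * ψ (i s) = ψ (i a)
      rw [hψi, hψi]
      exact has
    · obtain ⟨t, a, ha⟩ := hsurj (x - y)
      have h0 : algebraMap (R ⊗[S] B) (Localization.AtPrime p) a = 0 := by
        rw [← hψi, ← ha, map_mul, map_sub]
        rw [show ψ x = ψ y from hxy, sub_self, mul_zero]
      obtain ⟨s, hs⟩ := (IsLocalization.map_eq_zero_iff p.primeCompl _ a).mp h0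
      refine ⟨⟨i (s.1 * (1 ⊗ₜ (t : B))), _, p.primeCompl.mul_mem s.2 (show ((1 : R) ⊗ₜ[S] (t : B)) ∈ p.primeCompl from t.2), rfl⟩, ?_⟩
      show i (s.1 * (1 ⊗ₜ (t : B))) * x = i (s.1 * (1 ⊗ₜ (t : B))) * y
      rw [← sub_eq_zero, ← mul_sub, map_mul, mul_assoc, ha, ← map_mul, hs, map_zero]
  haveI : Module.Flat T (Localization.AtPrime p) :=
    IsLocalization.flat _ (p.primeCompl.map (i : R ⊗[S] B →+* T))
  haveI : Module.Flat R T := inferInstance
  exact Module.Flat.trans R T (Localization.AtPrime p)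

/-- Over a Noetherian base: H₁-regular with flat quotient implies flat at the primes containing the sequence. -/
theorem flat_atPrime_of_isH1Regular_noetherian {S B : Type u} [CommRing S] [CommRing B] [Algebra S B]
    [IsNoetherianRing B] {c : ℕ} (g : Fin c → B) (hg : CAlgX.IsH1Regular g)
    [Module.Flat S (B ⧸ Ideal.span (Set.range g))] (q : Ideal B) [q.IsPrime] (hq : ∀ i, g i ∈ q) :
    Module.Flat S (Localization.AtPrime q) := by
  let L := Localization.AtPrime q
  haveI : IsNoetherianRing L := IsLocalization.isNoetherianRing q.primeCompl L inferInstance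
  haveI : Module.Flat B L := IsLocalization.flat L q.primeCompl
  have h1 : CAlgX.IsH1Regular (algebraMap B L ∘ g) :=
    isH1Regular_map (algebraMap B L) (RingHom.flat_algebraMap_iff.mpr inferInstance) g hg
  set J := Ideal.span (Set.range g)
  have hJ : Ideal.span (Set.range (algebraMap B L ∘ g)) = J.map (algebraMap B L) := by
    rw [Ideal.map_span, ← Set.range_comp]
  haveI : Module.Flat S (L ⧸ Ideal.span (Set.range (algebraMap B L ∘ g))) := by
    rw [hJ]
    haveI : IsLocalization (Algebra.algebraMapSubmonoid (B ⧸ J) q.primeCompl) (L ⧸ J.map (algebraMap B L)) :=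
      inferInstance
    haveI : Module.Flat (B ⧸ J) (L ⧸ J.map (algebraMap B L)) :=
      IsLocalization.flat _ (Algebra.algebraMapSubmonoid (B ⧸ J) q.primeCompl)
    haveI : IsScalarTower S (B ⧸ J) (L ⧸ J.map (algebraMap B L)) := IsScalarTower.of_algebraMap_eq fun x => rfl
    exact Module.Flat.trans S (B ⧸ J) (L ⧸ J.map (algebraMap B L))
  refine flat_of_quasiRegular (algebraMap B L ∘ g) ?_ (isQuasiRegular_of_isH1Regular _ h1)
  rw [Ideal.span_le]
  rintro _ ⟨i, rfl⟩
  exact (IsLocalization.AtPrime.to_map_mem_maximal_iff L q (g i)).mpr (hq i)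

/-- Flatness at a prime along an isomorphism. -/
theorem flat_atPrime_of_algEquiv {R A A' : Type u} [CommRing R] [CommRing A] [CommRing A'] [Algebra R A] [Algebra R A']
    (e : A' ≃ₐ[R] A) (p : Ideal A) [p.IsPrime]
    (h : ∀ (p' : Ideal A') [p'.IsPrime], (∀ x, e x ∈ p → x ∈ p') → Module.Flat R (Localization.AtPrime p')) :
    Module.Flat R (Localization.AtPrime p) := by
  let p' : Ideal A' := p.comap e.toRingEquiv.toRingHom
  haveI : p'.IsPrime := Ideal.IsPrime.comap _
  haveI := h p' fun x hx => hx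
  have hmap : p'.primeCompl.map e.toRingEquiv.toMonoidHom = p.primeCompl := by
    ext x
    refine ⟨fun ⟨y, hy, he⟩ => he ▸ hy, fun hx => ⟨e.symm x, ?_, e.apply_symm_apply x⟩⟩
    show e (e.symm x) ∉ p
    rw [e.apply_symm_apply]; exact hx
  exact Module.Flat.of_linearEquiv
    (IsLocalization.algEquivOfAlgEquiv (Localization.AtPrime p') (Localization.AtPrime p) e hmap).symm.toLinearEquiv

/-- Flatness of the quotient of a base change. -/
theorem flat_quot_baseChange_iff {R₀ S A₀ : Type u} [CommRing R₀] [CommRing S] [Algebra R₀ S] [CommRing A₀]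
    [Algebra R₀ A₀] (J : Ideal A₀) :
    Module.Flat S (S ⊗[R₀] (A₀ ⧸ J)) ↔ Module.Flat S ((S ⊗[R₀] A₀) ⧸ J.map (bcHom (R := R₀) S)) := by
  have e : (S ⊗[R₀] (A₀ ⧸ J)) ≃ₗ[S] ((S ⊗[R₀] A₀) ⧸ J.map (bcHom (R := R₀) S)) :=
    (Algebra.TensorProduct.tensorQuotientEquiv (R := R₀) S A₀ S J).toLinearEquiv
  exact ⟨fun _ => Module.Flat.of_linearEquiv e.symm, fun _ => Module.Flat.of_linearEquiv e⟩

/-- Passage from a Noetherian stage to the top. -/
theorem flat_atPrime_of_noetherian_stage {R₁ S R A₁ : Type u} [CommRing R₁] [CommRing S] [CommRing R] [CommRing A₁]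
    [Algebra R₁ A₁] [Algebra R₁ S] [Algebra R₁ R] [Algebra S R] [IsScalarTower R₁ S R]
    [IsNoetherianRing S] [Algebra.FiniteType R₁ A₁] {c : ℕ} (f : Fin c → A₁)
    [Module.Flat R₁ (A₁ ⧸ Ideal.span (Set.range f))]
    (hkill : ∀ v : Fin c → A₁, ∑ i, v i * f i = 0 → (1 : S) ⊗ₜ[R₁] (trivial₁ f).mkQ v = 0)
    (p : Ideal (R ⊗[R₁] A₁)) [p.IsPrime] (hp : ∀ i, bcHom (R := R₁) R (f i) ∈ p) :
    Module.Flat R (Localization.AtPrime p) := by
  let g : Fin c → S ⊗[R₁] A₁ := fun i => bcHom (R := R₁) S (f i)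
  have hg : CAlgX.IsH1Regular g := isH1Regular_baseChange_of S f hkill
  haveI : IsNoetherianRing (S ⊗[R₁] A₁) := Algebra.FiniteType.isNoetherianRing S (S ⊗[R₁] A₁)
  haveI : Module.Flat S ((S ⊗[R₁] A₁) ⧸ Ideal.span (Set.range g)) := by
    have e : Ideal.span (Set.range g) = (Ideal.span (Set.range f)).map (bcHom (R := R₁) S) := by
      rw [Ideal.map_span, ← Set.range_comp]; rfl
    rw [e]
    exact (flat_quot_baseChange_iff _).mp inferInstance
  refine flat_atPrime_of_algEquiv (Algebra.TensorProduct.cancelBaseChange R₁ S R R A₁) p fun p' _ hp' => ?_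
  refine flat_atPrime_baseChange p' (flat_atPrime_of_isH1Regular_noetherian g hg _ fun i => hp' _ ?_)
  show Algebra.TensorProduct.cancelBaseChange R₁ S R R A₁ ((1 : R) ⊗ₜ[S] ((1 : S) ⊗ₜ[R₁] f i)) ∈ p
  rw [Algebra.TensorProduct.cancelBaseChange_tmul, one_smul]
  exact hp i

set_option maxHeartbeats 800000 in
/-- H₁-regular with flat quotient at a Noetherian stage: flat at the primes containing the sequence. -/
theorem flat_atPrime_of_stage {R₁ R A₁ : Type u} [CommRing R₁] [IsNoetherianRing R₁] [CommRing R] [Algebra R₁ R]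
    [CommRing A₁] [Algebra R₁ A₁] [Algebra.FiniteType R₁ A₁] {c : ℕ} (f : Fin c → A₁)
    [Module.Flat R₁ (A₁ ⧸ Ideal.span (Set.range f))]
    (hf : CAlgX.IsH1Regular fun i => bcHom (R := R₁) R (f i))
    (p : Ideal (R ⊗[R₁] A₁)) [p.IsPrime] (hp : ∀ i, bcHom (R := R₁) R (f i) ∈ p) :
    Module.Flat R (Localization.AtPrime p) := by
  classical
  haveI : IsNoetherianRing A₁ := Algebra.FiniteType.isNoetherianRing R₁ A₁
  obtain ⟨G, hG⟩ := IsNoetherian.noetherian (LinearMap.ker (relMap f))
  let Q := (Fin c → A₁) ⧸ trivial₁ f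
  let M := G → Q
  let z₀ : M := fun b => (trivial₁ f).mkQ b.1
  have hrel : ∀ b : G, ∑ i, b.1 i * f i = 0 := fun b => by
    have : b.1 ∈ LinearMap.ker (relMap f) := hG ▸ Submodule.subset_span b.2
    rwa [LinearMap.mem_ker, relMap_apply] at this
  have hz : (1 : R) ⊗ₜ[R₁] z₀ = 0 := by
    refine (TensorProduct.piRight R₁ R₁ R fun _ : G => Q).injective ?_
    rw [map_zero, TensorProduct.piRight_apply, TensorProduct.piRightHom_tmul]
    exact funext fun b => tmul_mkQ_eq_zero R f hf (hrel b)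
  let Gs : Finset R → Type u := fun T => Algebra.adjoin R₁ (T : Set R)
  obtain ⟨T, ψ, -, hT⟩ := GrothLib.FlatLimit.exists_stage_tmul_eq_zero (A₀ := R₁) (A := R) Gs
    (fun T T' => ⟨T ∪ T', Subalgebra.inclusion (Algebra.adjoin_mono (by simp)),
      Subalgebra.inclusion (Algebra.adjoin_mono (by simp)), fun _ => rfl, fun _ => rfl⟩)
    (fun T => ⟨T, fun x hx => ⟨⟨x, Algebra.subset_adjoin hx⟩, rfl⟩⟩)
    (fun T s hs => ⟨T, AlgHom.id R₁ _, fun _ => rfl, fun x hx => Subtype.ext (hs x hx)⟩)
    ∅ ((1 : Gs ∅) ⊗ₜ[R₁] z₀) (by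
      rw [LinearMap.rTensor_tmul]
      show (algebraMap (Gs ∅) R 1) ⊗ₜ[R₁] z₀ = 0
      rw [map_one, hz])
  rw [LinearMap.rTensor_tmul, AlgHom.toLinearMap_apply, map_one] at hT
  haveI : Algebra.FiniteType R₁ (Gs T) := Algebra.FiniteType.adjoin_of_finite T.finite_toSet
  haveI : IsNoetherianRing (Gs T) := Algebra.FiniteType.isNoetherianRing R₁ (Gs T)
  have hkill : ∀ v : Fin c → A₁, ∑ i, v i * f i = 0 → (1 : Gs T) ⊗ₜ[R₁] (trivial₁ f).mkQ v = 0 := by
    intro v hv
    have hmem : v ∈ Submodule.span A₁ (G : Set (Fin c → A₁)) := by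
      rw [hG, LinearMap.mem_ker, relMap_apply]; exact hv
    clear hv
    induction hmem using Submodule.span_induction with
    | mem b hb =>
      have h := congrArg (TensorProduct.piRight R₁ R₁ (Gs T) fun _ : G => Q) hT
      rw [map_zero, TensorProduct.piRight_apply, TensorProduct.piRightHom_tmul] at h
      exact congrFun h ⟨b, hb⟩
    | zero => simp
    | add v w _ _ hv hw => rw [map_add, tmul_add, hv, hw, add_zero]
    | smul a v _ hv =>
      have h := congrArg (((LinearMap.lsmul A₁ Q a).restrictScalars R₁).lTensor (Gs T)) hv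
      rw [map_zero, LinearMap.lTensor_tmul] at h
      rw [map_smul]
      exact h
  exact flat_atPrime_of_noetherian_stage (S := Gs T) f hkill p hp

/-- Over a model on a Noetherian ring. -/
theorem flat_atPrime_of_model {R₀ R A A₀ : Type u} [CommRing R₀] [IsNoetherianRing R₀] [CommRing R] [Algebra R₀ R]
    [CommRing A] [Algebra R A] [CommRing A₀] [Algebra R₀ A₀] [Algebra.FinitePresentation R₀ A₀]
    (e₀ : R ⊗[R₀] A₀ ≃ₐ[R] A) {c : ℕ} (f : Fin c → A) (f₀ : Fin c → A₀) (he₀ : ∀ i, e₀ ((1 : R) ⊗ₜ[R₀] f₀ i) = f i)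
    (hf : CAlgX.IsH1Regular f) [Module.Flat R (A ⧸ Ideal.span (Set.range f))]
    (p : Ideal A) [p.IsPrime] (hp : ∀ i, f i ∈ p) : Module.Flat R (Localization.AtPrime p) := by
  classical
  set J₀ := Ideal.span (Set.range f₀) with hJ₀
  haveI : Module.FinitePresentation A₀ (A₀ ⧸ J₀) :=
    Module.finitePresentation_of_surjective J₀.mkQ J₀.mkQ_surjective
      (by rw [Submodule.ker_mkQ]; exact Submodule.fg_span (Set.finite_range _))
  have hspan : (J₀.map (bcHom (R := R₀) R)).map (e₀ : R ⊗[R₀] A₀ →+* A) = Ideal.span (Set.range f) := by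
    rw [hJ₀, Ideal.map_span, Ideal.map_span, ← Set.range_comp, ← Set.range_comp]
    congr 1
    exact congrArg Set.range (funext he₀)
  haveI : Module.Flat R (R ⊗[R₀] (A₀ ⧸ J₀)) :=
    (flat_quot_baseChange_iff J₀).mpr (Module.Flat.of_linearEquiv
      (Ideal.quotientEquivAlg _ (Ideal.span (Set.range f)) e₀ hspan.symm).toLinearEquiv)
  let Gs : Finset R → Type u := fun T => Algebra.adjoin R₀ (T : Set R)
  obtain ⟨T, hT⟩ := GrothLib.FlatLimit.exists_stage_flat (A₀ := R₀) (A := R) Gs
    (fun T T' => ⟨T ∪ T', Subalgebra.inclusion (Algebra.adjoin_mono (by simp)),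
      Subalgebra.inclusion (Algebra.adjoin_mono (by simp)), fun _ => rfl, fun _ => rfl⟩)
    (fun T => ⟨T, fun x hx => ⟨⟨x, Algebra.subset_adjoin hx⟩, rfl⟩⟩)
    (fun T s hs => ⟨T, AlgHom.id R₀ _, fun _ => rfl, fun x hx => Subtype.ext (hs x hx)⟩)
    A₀ (A₀ ⧸ J₀)
  haveI : Algebra.FiniteType R₀ (Gs T) := Algebra.FiniteType.adjoin_of_finite T.finite_toSet
  haveI : IsNoetherianRing (Gs T) := Algebra.FiniteType.isNoetherianRing R₀ (Gs T)
  refine flat_atPrime_of_algEquiv
    ((Algebra.TensorProduct.cancelBaseChange R₀ (Gs T) R R A₀).trans e₀) p fun p' _ hp' => ?_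
  let f₁ : Fin c → Gs T ⊗[R₀] A₀ := fun i => bcHom (R := R₀) (Gs T) (f₀ i)
  haveI : Module.Flat (Gs T) ((Gs T ⊗[R₀] A₀) ⧸ Ideal.span (Set.range f₁)) := by
    have e : Ideal.span (Set.range f₁) = J₀.map (bcHom (R := R₀) (Gs T)) := by
      rw [hJ₀, Ideal.map_span, ← Set.range_comp]; rfl
    rw [e]
    exact (flat_quot_baseChange_iff _).mp hT
  have he : ∀ i, ((Algebra.TensorProduct.cancelBaseChange R₀ (Gs T) R R A₀).trans e₀)
      (bcHom (R := Gs T) R (f₁ i)) = f i := fun i => by
    show e₀ (Algebra.TensorProduct.cancelBaseChange R₀ (Gs T) R R A₀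
      ((1 : R) ⊗ₜ[Gs T] ((1 : Gs T) ⊗ₜ[R₀] f₀ i))) = f i
    rw [Algebra.TensorProduct.cancelBaseChange_tmul, one_smul]
    exact he₀ i
  refine flat_atPrime_of_stage f₁ ?_ p' fun i => hp' _ (by rw [he]; exact hp i)
  have h := isH1Regular_map (((Algebra.TensorProduct.cancelBaseChange R₀ (Gs T) R R A₀).trans e₀).symm.toRingEquiv.toRingHom)
    (RingHom.Flat.of_bijective ((Algebra.TensorProduct.cancelBaseChange R₀ (Gs T) R R A₀).trans e₀).symm.bijective) f hf
  convert h using 1
  funext i
  show _ = ((Algebra.TensorProduct.cancelBaseChange R₀ (Gs T) R R A₀).trans e₀).symm (f i)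
  rw [← he i, AlgEquiv.symm_apply_apply]


/-- **H₁-regular with flat quotient implies flat along the sequence.** -/
theorem flat_atPrime_of_isH1Regular {R A : Type u} [CommRing R] [CommRing A] [Algebra R A]
    [Algebra.FinitePresentation R A] {c : ℕ} (f : Fin c → A) (hf : CAlgX.IsH1Regular f)
    [Module.Flat R (A ⧸ Ideal.span (Set.range f))] (p : Ideal A) [p.IsPrime] (hp : ∀ i, f i ∈ p) :
    Module.Flat R (Localization.AtPrime p) := by
  classical
  let P := Algebra.Presentation.ofFinitePresentation R A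
  let fl : Fin c → MvPolynomial (Fin (Algebra.Presentation.ofFinitePresentationVars R A)) R :=
    fun i => P.σ (f i)
  let T₀ : Set R := P.coeffs ∪ ⋃ i, ((fl i).coeffs : Set R)
  have hT₀ : T₀.Finite := P.finite_coeffs.union (Set.finite_iUnion fun i => Finset.finite_toSet _)
  let R₀ := Algebra.adjoin ℤ T₀
  haveI : Algebra.FiniteType ℤ R₀ := Algebra.FiniteType.adjoin_of_finite hT₀
  haveI : IsNoetherianRing R₀ := Algebra.FiniteType.isNoetherianRing ℤ R₀
  haveI : P.HasCoeffs R₀ :=
    ⟨fun x hx => ⟨⟨x, Algebra.subset_adjoin (Or.inl hx)⟩, rfl⟩⟩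
  choose fl₀ hfl₀ using fun i => MvPolynomial.mem_range_map_iff_coeffs_subset.mpr
    (fun x hx => ⟨⟨x, Algebra.subset_adjoin (Or.inr (Set.mem_iUnion_of_mem i hx))⟩, rfl⟩ :
      ((fl i).coeffs : Set R) ⊆ Set.range (algebraMap R₀ R))
  let A₀ := P.ModelOfHasCoeffs R₀
  let e₀ : R ⊗[R₀] A₀ ≃ₐ[R] A := P.tensorModelOfHasCoeffsEquiv R₀
  let f₀ : Fin c → A₀ := fun i => Ideal.Quotient.mk _ (fl₀ i)
  have he₀ : ∀ i, e₀ ((1 : R) ⊗ₜ[R₀] f₀ i) = f i := fun i => by
    show P.tensorModelOfHasCoeffsEquiv R₀ ((1 : R) ⊗ₜ[R₀] Ideal.Quotient.mk _ (fl₀ i)) = f i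
    rw [Algebra.Presentation.tensorModelOfHasCoeffsEquiv_tmul, map_one, one_mul,
      ← MvPolynomial.aeval_map_algebraMap R, hfl₀]
    exact P.aeval_val_σ (f i)
  exact flat_atPrime_of_model e₀ f f₀ he₀ hf p hp

end GrothLib.RelReg
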